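import Groth.Agent.QCoh.Ab.Cech
import Mathlib.AlgebraicGeometry.Sites.Etale
import Mathlib.Algebra.Category.Grp.EpiMono
import Mathlib.CategoryTheory.Preadditive.Injective.Basic
import Mathlib.Algebra.Category.Grp.Limits

/-! fibre powers of a morphism; injective presheaves have no higher Cech cohomology on them -/

universe v w u

open CategoryTheory CategoryTheory.Limits Opposite

namespace Groth.Agent.ProStage

variable {C : Type w} [Category.{v} C] {V U : C} (c : V ⟶ U)

/-- fibre powers of a morphism -/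
structure Powers where
  /-- the powers -/
  obj : ℕ → C
  /-- the structure maps -/
  toBase : ∀ n, obj n ⟶ U
  /-- the projections -/
  pr : ∀ n, Fin (n + 1) → (obj n ⟶ V)
  pr_comp : ∀ n i, pr n i ≫ c = toBase n
  /-- tuples -/
  lift : ∀ n {T : C} (q : T ⟶ U) (t : Fin (n + 1) → (T ⟶ V)), (∀ i, t i ≫ c = q) → (T ⟶ obj n)
  lift_pr : ∀ n {T : C} (q : T ⟶ U) (t : Fin (n + 1) → (T ⟶ V)) (h : ∀ i, t i ≫ c = q) (i),
    lift n q t h ≫ pr n i = t i
  hom_ext : ∀ n {T : C} (f g : T ⟶ obj n), (∀ i, f ≫ pr n i = g ≫ pr n i) → f = g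

variable {c} (P : Powers c)

theorem Powers.lift_toBase {n : ℕ} {T : C} (q : T ⟶ U) (t : Fin (n + 1) → (T ⟶ V)) (h : ∀ i, t i ≫ c = q) :
    P.lift n q t h ≫ P.toBase n = q := by
  rw [← P.pr_comp n 0, ← Category.assoc, P.lift_pr, h]

/-- the face maps -/
def Powers.face (n : ℕ) (j : Fin (n + 2)) : P.obj (n + 1) ⟶ P.obj n :=
  P.lift n (P.toBase (n + 1)) (fun i => P.pr (n + 1) (j.succAbove i)) fun _ => P.pr_comp _ _

theorem Powers.face_pr (n : ℕ) (j : Fin (n + 2)) (i : Fin (n + 1)) :
    P.face n j ≫ P.pr n i = P.pr (n + 1) (j.succAbove i) := P.lift_pr _ _ _ _ _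

section

variable (F : Cᵒᵖ ⥤ AddCommGrpCat.{max w v})

/-- the alternating sum of the faces -/
def Powers.d {n : ℕ} (y : F.obj (op (P.obj n))) : F.obj (op (P.obj (n + 1))) :=
  ∑ j : Fin (n + 2), (-1 : ℤ) ^ (j : ℕ) • F.map (P.face n j).op y

/-- the cofree presheaf on the values of `F` -/
@[simps]
def cofree : Cᵒᵖ ⥤ AddCommGrpCat.{max w v} where
  obj T := AddCommGrpCat.of (∀ T0 : C, (T0 ⟶ T.unop) → F.obj (op T0))
  map f := AddCommGrpCat.ofHom
    { toFun := fun x T0 h => x T0 (h ≫ f.unop)
      map_zero' := rfl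
      map_add' := fun _ _ => rfl }
  map_id T := AddCommGrpCat.hom_ext <| AddMonoidHom.ext fun x => funext₂ fun T0 h =>
    congrArg (x T0) (Category.comp_id h)
  map_comp f g := AddCommGrpCat.hom_ext <| AddMonoidHom.ext fun x => funext₂ fun T0 h =>
    congrArg (x T0) (Category.assoc h _ _).symm

/-- the map into the cofree presheaf -/
def toCofree : F ⟶ cofree F where
  app T := AddCommGrpCat.ofHom
    { toFun := fun s _ h => F.map h.op s
      map_zero' := by funext T0 h; simp
      map_add' := fun _ _ => by funext T0 h; simp }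
  naturality S T f := by
    ext s; funext T0 h
    exact congrArg (fun t => t.hom s) (F.map_comp f h.op).symm

theorem mono_toCofree : Mono (toCofree F) := by
  have : ∀ T, Mono ((toCofree F).app T) := fun T => (AddCommGrpCat.mono_iff_injective _).2
    fun a b hab => by
      have h : (F.map (𝟙 T.unop).op).hom a = (F.map (𝟙 T.unop).op).hom b :=
        congrFun (congrFun hab T.unop) (𝟙 _)
      simpa using h
  exact NatTrans.mono_of_mono_app _

theorem Powers.d_natural {G : Cᵒᵖ ⥤ AddCommGrpCat.{max w v}} (φ : F ⟶ G) {n : ℕ} (y : F.obj (op (P.obj n))) :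
    φ.app _ (P.d F y) = P.d G (φ.app _ y) := by
  rw [Powers.d, Powers.d, map_sum]
  refine Finset.sum_congr rfl fun j _ => ?_
  rw [map_zsmul]
  exact congrArg (_ • ·) (ConcreteCategory.congr_hom (φ.naturality (P.face n j).op) y)

theorem Powers.d_d {n : ℕ} (y : F.obj (op (P.obj n))) : P.d F (P.d F y) = 0 := by
  classical
  let T0 := P.obj (n + 2)
  let q := P.toBase (n + 2)
  let e : Fin (n + 3) → (T0 ⟶ V) := P.pr (n + 2)
  let G : (Fin (n + 1) → (T0 ⟶ V)) → F.obj (op T0) := fun t =>
    if h : ∀ i, t i ≫ c = q then F.map (P.lift n q t h).op y else 0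
  refine Eq.trans ?_ (QCoh.Ab.delta_delta G e)
  rw [Powers.d, QCoh.Ab.delta]
  refine Finset.sum_congr rfl fun b _ => ?_
  congr 1
  rw [Powers.d, map_sum, QCoh.Ab.delta]
  refine Finset.sum_congr rfl fun a _ => ?_
  rw [map_zsmul]
  congr 1
  simp only [G]
  rw [dif_pos (fun i => P.pr_comp _ _), ← ConcreteCategory.comp_apply, ← Functor.map_comp, ← op_comp]
  congr 4
  refine P.hom_ext _ _ _ fun i => ?_
  rw [Category.assoc, P.face_pr, P.face_pr, P.lift_pr]

/-- cocycles of injective presheaves in positive degree are coboundaries -/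
theorem Powers.exists_preimage [Injective F] {n : ℕ} (y : F.obj (op (P.obj (n + 1))))
    (hy : P.d F y = 0) : ∃ z : F.obj (op (P.obj n)), P.d F z = y := by
  classical
  let G : ∀ (T0 : C) (q : T0 ⟶ U), (Fin (n + 2) → (T0 ⟶ V)) → F.obj (op T0) := fun T0 q t =>
    if h : ∀ i, t i ≫ c = q then F.map (P.lift (n + 1) q t h).op y else 0
  let z' : (cofree F).obj (op (P.obj n)) := fun T0 (h : T0 ⟶ P.obj n) =>
    if hl : Nonempty {l : T0 ⟶ V // l ≫ c = h ≫ P.toBase n} then
      G T0 (h ≫ P.toBase n) (Fin.cons hl.some.1 fun i => h ≫ P.pr n i) else 0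
  have key : P.d (cofree F) z' = (toCofree F).app _ y := by
    funext T0 (h : T0 ⟶ P.obj (n + 1))
    let q := h ≫ P.toBase (n + 1)
    let e : Fin (n + 2) → (T0 ⟶ V) := fun i => h ≫ P.pr (n + 1) i
    have he : ∀ i, e i ≫ c = q := fun i => (Category.assoc _ _ _).trans (congrArg (h ≫ ·) (P.pr_comp _ _))
    have hne : Nonempty {l : T0 ⟶ V // l ≫ c = q} := ⟨⟨e 0, he 0⟩⟩
    let l := hne.some.1
    have hterm : ∀ j : Fin (n + 2), z' T0 (h ≫ P.face n j) = G T0 q (Fin.cons l fun i => e (j.succAbove i)) := by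
      intro j
      have hb : (h ≫ P.face n j) ≫ P.toBase n = q := by
        rw [Category.assoc, Powers.face, P.lift_toBase]
      have hp : (fun i => (h ≫ P.face n j) ≫ P.pr n i) = fun i => e (j.succAbove i) :=
        funext fun i => by rw [Category.assoc, P.face_pr]
      have : ∀ (q' : T0 ⟶ U) (_ : q' = q) (t : Fin (n + 1) → (T0 ⟶ V)),
          (if hl : Nonempty {l : T0 ⟶ V // l ≫ c = q'} then G T0 q' (Fin.cons hl.some.1 t) else 0) =
            G T0 q (Fin.cons l t) := by
        rintro q' rfl t
        rw [dif_pos hne]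
      change (if hl : Nonempty {l : T0 ⟶ V // l ≫ c = (h ≫ P.face n j) ≫ P.toBase n} then
        G T0 _ (Fin.cons hl.some.1 fun i => (h ≫ P.face n j) ≫ P.pr n i) else 0) = _
      rw [hp]
      exact this _ hb _
    have hz : QCoh.Ab.delta (G T0 q) (Fin.cons l e) = 0 := by
      have hc : ∀ i, (Fin.cons l e : Fin (n + 3) → (T0 ⟶ V)) i ≫ c = q :=
        Fin.cases hne.some.2 he
      let L := P.lift (n + 2) q _ hc
      have h0 : F.map L.op (P.d F y) = 0 := by rw [hy, map_zero]
      rw [Powers.d, map_sum] at h0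
      refine Eq.trans (Finset.sum_congr rfl fun a _ => ?_) h0
      rw [map_zsmul, ← ConcreteCategory.comp_apply, ← Functor.map_comp, ← op_comp]
      change (-1 : ℤ) ^ (a : ℕ) • G T0 q _ = _
      simp only [G]
      rw [dif_pos (fun i => hc _)]
      congr 5
      refine P.hom_ext _ _ _ fun i => ?_
      rw [P.lift_pr, Category.assoc, P.face_pr, P.lift_pr]
    rw [QCoh.Ab.delta_cons, sub_eq_zero] at hz
    have hlhs : P.d (cofree F) z' T0 h = QCoh.Ab.delta (fun ρ => G T0 q (Fin.cons l ρ)) e := by
      rw [Powers.d, QCoh.Ab.delta]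
      erw [Finset.sum_apply, Finset.sum_apply]
      exact Finset.sum_congr rfl fun j _ => congrArg (((-1 : ℤ) ^ (j : ℕ)) • ·) (hterm j)
    rw [hlhs, ← hz]
    simp only [G]
    rw [dif_pos he]
    change F.map _ y = F.map h.op y
    congr 4
    exact P.hom_ext _ _ _ fun i => by rw [P.lift_pr]
  have := mono_toCofree F
  refine ⟨(Injective.factorThru (𝟙 F) (toCofree F)).app _ z', ?_⟩
  rw [← P.d_natural, key]
  exact ConcreteCategory.congr_hom (NatTrans.congr_app (Injective.comp_factorThru (𝟙 F) (toCofree F)) _) y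

end

end Groth.Agent.ProStage

namespace Groth.Agent.ProStage

open AlgebraicGeometry

set_option backward.isDefEq.respectTransparency.types false

/-- fibre powers of schemes -/
noncomputable def schPow {V U : Scheme.{u}} (c : V ⟶ U) : ℕ → Over U
  | 0 => Over.mk c
  | n + 1 => Over.mk (pullback.fst (schPow c n).hom c ≫ (schPow c n).hom)

/-- the projections of fibre powers -/
noncomputable def schPr {V U : Scheme.{u}} (c : V ⟶ U) : ∀ n, Fin (n + 1) → ((schPow c n).left ⟶ V)
  | 0 => fun _ => 𝟙 V
  | n + 1 => Fin.lastCases (pullback.snd (schPow c n).hom c)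
      fun j => pullback.fst (schPow c n).hom c ≫ schPr c n j

theorem schPr_castSucc {V U : Scheme.{u}} (c : V ⟶ U) (n : ℕ) (j : Fin (n + 1)) :
    schPr c (n + 1) j.castSucc = pullback.fst (schPow c n).hom c ≫ schPr c n j :=
  Fin.lastCases_castSucc (motive := fun _ => (schPow c (n + 1)).left ⟶ V) j

theorem schPr_last {V U : Scheme.{u}} (c : V ⟶ U) (n : ℕ) :
    schPr c (n + 1) (Fin.last _) = pullback.snd (schPow c n).hom c :=
  Fin.lastCases_last (motive := fun _ => (schPow c (n + 1)).left ⟶ V)

theorem schPr_comp {V U : Scheme.{u}} (c : V ⟶ U) : ∀ n i, schPr c n i ≫ c = (schPow c n).hom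
  | 0, _ => Category.id_comp c
  | n + 1, i => by
    refine Fin.lastCases ?_ (fun j => ?_) i
    · simp only [schPr, Fin.lastCases_last]
      exact pullback.condition.symm
    · simp only [schPr, Fin.lastCases_castSucc, Category.assoc, schPr_comp c n j]
      rfl

theorem schPow_hom_ext {V U : Scheme.{u}} (c : V ⟶ U) : ∀ n {T : Scheme.{u}}
    (f g : T ⟶ (schPow c n).left), (∀ i, f ≫ schPr c n i = g ≫ schPr c n i) → f = g
  | 0, _, f, g, h => ((Category.comp_id f).symm.trans (h 0)).trans (Category.comp_id g)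
  | n + 1, _, f, g, h => by
    refine pullback.hom_ext (schPow_hom_ext c n _ _ fun j => ?_) ?_
    · have h' := h j.castSucc
      rw [schPr_castSucc] at h'
      exact ((Category.assoc _ _ _).trans h').trans (Category.assoc _ _ _).symm
    · have h' := h (Fin.last _)
      rw [schPr_last] at h'
      exact h'

theorem exists_schLift {V U : Scheme.{u}} (c : V ⟶ U) : ∀ n {T : Scheme.{u}} (q : T ⟶ U)
    (t : Fin (n + 1) → (T ⟶ V)), (∀ i, t i ≫ c = q) → ∃ l : T ⟶ (schPow c n).left, ∀ i, l ≫ schPr c n i = t i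
  | 0, _, q, t, h => ⟨t 0, fun i => by obtain rfl : i = 0 := Fin.fin_one_eq_zero i; exact Category.comp_id _⟩
  | n + 1, _, q, t, h => by
    obtain ⟨l, hl⟩ := exists_schLift c n q (fun j => t j.castSucc) fun j => h _
    refine ⟨pullback.lift l (t (Fin.last _)) ?_, fun i => ?_⟩
    · rw [h, ← schPr_comp c n 0, ← Category.assoc, hl, h]
    · refine Fin.lastCases ?_ (fun j => ?_) i
      · rw [schPr_last]
        exact pullback.lift_snd _ _ _
      · rw [schPr_castSucc]
        exact (pullback.lift_fst_assoc _ _ _ _).trans (hl j)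

/-- fibre powers of morphisms between affine schemes are affine -/
theorem isAffine_schPow {V U : Scheme.{u}} (c : V ⟶ U) [IsAffine V] [IsAffine U] :
    ∀ n, IsAffine (schPow c n).left
  | 0 => inferInstanceAs (IsAffine V)
  | n + 1 => by
    have := isAffine_schPow c n
    exact inferInstanceAs (IsAffine (pullback (schPow c n).hom c))

theorem etale_schPow {V U : Scheme.{u}} (c : V ⟶ U) [Etale c] : ∀ n, Etale (schPow c n).hom
  | 0 => inferInstanceAs (Etale c)
  | n + 1 => by
    have := etale_schPow c n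
    exact inferInstanceAs (Etale (pullback.fst (schPow c n).hom c ≫ (schPow c n).hom))

variable {X : Scheme.{u}}

/-- fibre powers in the small etale site -/
noncomputable def etPowers {V U : X.Etale} (c : V ⟶ U) [hc : Etale c.left] : Powers c where
  obj n :=
    haveI := etale_schPow c.left n
    haveI : Etale U.hom := U.prop
    Scheme.Etale.mk ((schPow c.left n).hom ≫ U.hom)
  toBase n :=
    haveI := etale_schPow c.left n
    haveI : Etale U.hom := U.prop
    MorphismProperty.Over.homMk (schPow c.left n).hom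
  pr n i := MorphismProperty.Over.homMk (schPr c.left n i) (by
    exact (congrArg (schPr c.left n i ≫ ·) (MorphismProperty.Over.w c).symm).trans
      ((Category.assoc _ _ _).symm.trans (congrArg (· ≫ U.hom) (schPr_comp c.left n i))))
  pr_comp n i := MorphismProperty.Over.Hom.ext (schPr_comp c.left n i)
  lift n T q t h := MorphismProperty.Over.homMk
    (exists_schLift c.left n q.left (fun i => (t i).left) fun i => congrArg (fun f => f.left) (h i)).choose
    (by
      change _ ≫ (schPow c.left n).hom ≫ U.hom = _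
      have hs := (exists_schLift c.left n q.left (fun i => (t i).left)
        fun i => congrArg (fun f => f.left) (h i)).choose_spec 0
      rw [← schPr_comp c.left n 0, ← Category.assoc, ← Category.assoc, hs, Category.assoc]
      rw [MorphismProperty.Over.w c, MorphismProperty.Over.w (t 0)])
  lift_pr n T q t h i := MorphismProperty.Over.Hom.ext
    ((exists_schLift c.left n q.left (fun i => (t i).left) fun i => congrArg (fun f => f.left) (h i)).choose_spec i)
  hom_ext n T f g h := MorphismProperty.Over.Hom.ext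
    (schPow_hom_ext c.left n _ _ fun i => congrArg (fun e => e.left) (h i))

end Groth.Agent.ProStage
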