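import Groth.Agent.ProStage.Basic
import Groth.Agent.ProStage.Powers
import Groth.Agent.ProEtLib.Basic

/-! stages of a map of pro-etale objects; fibre powers are limits of fibre powers of stages -/

universe u

open CategoryTheory CategoryTheory.Limits AlgebraicGeometry Opposite MorphismProperty

namespace Groth.Agent.ProStage

set_option backward.isDefEq.respectTransparency.types false

theorem weaklyEtale_schPow {V U : Scheme.{u}} (c : V ⟶ U) (hc : WeaklyEtale c) :
    ∀ n, WeaklyEtale (schPow c n).hom
  | 0 => hc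
  | n + 1 => by
    have := weaklyEtale_schPow c hc n
    have := hc
    exact inferInstanceAs (WeaklyEtale (pullback.fst (schPow c n).hom c ≫ (schPow c n).hom))

variable {X : Scheme.{u}} (U₀ : X.Etale) [IsAffine U₀.left]

/-- fibre powers in the small pro-etale site -/
noncomputable def proPowers {V U : X.ProEt} (c : V ⟶ U) : Powers c where
  obj n :=
    haveI := weaklyEtale_schPow c.left (ProEtLib.weaklyEtale_left c) n
    haveI : WeaklyEtale U.hom := U.prop
    Scheme.ProEt.mk ((schPow c.left n).hom ≫ U.hom)
  toBase n :=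
    haveI := weaklyEtale_schPow c.left (ProEtLib.weaklyEtale_left c) n
    haveI : WeaklyEtale U.hom := U.prop
    MorphismProperty.Over.homMk (schPow c.left n).hom
  pr n i := MorphismProperty.Over.homMk (schPr c.left n i) (by
    exact (congrArg (schPr c.left n i ≫ ·) (MorphismProperty.Over.w c).symm).trans
      ((Category.assoc _ _ _).symm.trans (congrArg (· ≫ U.hom) (schPr_comp c.left n i))))
  pr_comp n i := MorphismProperty.Over.Hom.ext (schPr_comp c.left n i)
  lift n T q t h := MorphismProperty.Over.homMk
    (exists_schLift c.left n q.left (fun i => (t i).left) fun i => congrArg (fun f => f.left) (h i)).choose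
    (by
      change _ ≫ (schPow c.left n).hom ≫ U.hom = _
      have hs := (exists_schLift c.left n q.left (fun i => (t i).left)
        fun i => congrArg (fun f => f.left) (h i)).choose_spec 0
      rw [← schPr_comp c.left n 0, ← Category.assoc, ← Category.assoc, hs, Category.assoc]
      rw [MorphismProperty.Over.w c, MorphismProperty.Over.w (t 0)])
  lift_pr n T q t h i := MorphismProperty.Over.Hom.ext
    ((exists_schLift c.left n q.left (fun i => (t i).left) fun i => congrArg (fun f => f.left) (h i)).choose_spec i)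
  hom_ext n T f g h := MorphismProperty.Over.Hom.ext
    (schPow_hom_ext c.left n _ _ fun i => congrArg (fun e => e.left) (h i))

/-- stages as objects of the etale site of `X` -/
noncomputable def toX : SEt U₀.left ⥤ X.Etale where
  obj t :=
    haveI : Etale U₀.hom := U₀.prop
    Scheme.Etale.mk (((toOv U₀.left).obj t).hom ≫ U₀.hom)
  map g := MorphismProperty.Over.homMk ((toOv U₀.left).map g).left
    ((Category.assoc _ _ _).symm.trans (congrArg (· ≫ U₀.hom) (CategoryTheory.Over.w ((toOv U₀.left).map g))))
  map_id t := MorphismProperty.Over.Hom.ext (congrArg (fun f => f.left) ((toOv U₀.left).map_id t))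
  map_comp g h := MorphismProperty.Over.Hom.ext (congrArg (fun f => f.left) ((toOv U₀.left).map_comp g h))

/-- the structure map of a stage -/
noncomputable def toXBase (t : SEt U₀.left) : (toX U₀).obj t ⟶ U₀ :=
  MorphismProperty.Over.homMk ((toOv U₀.left).obj t).hom

variable {U₀} {W P : X.ProEt}

/-- an object over `U₀` as a scheme over it -/
abbrev ovS (w : W ⟶ (ProEtS.eps X).obj U₀) : Over U₀.left :=
  CategoryTheory.Over.mk (show W.left ⟶ U₀.left from w.left)

/-- the map to a stage -/
noncomputable def sMap {w : W ⟶ (ProEtS.eps X).obj U₀} (a : StructuredArrow (ovS w) (toOv U₀.left)) :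
    W ⟶ (ProEtS.eps X).obj ((toX U₀).obj a.right) :=
  MorphismProperty.Over.homMk a.hom.left (by
    change a.hom.left ≫ ((toOv U₀.left).obj a.right).hom ≫ U₀.hom = W.hom
    rw [← Category.assoc]
    exact (congrArg (· ≫ U₀.hom) (CategoryTheory.Over.w a.hom)).trans (MorphismProperty.Over.w w))

theorem sMap_map {w : W ⟶ (ProEtS.eps X).obj U₀} {a b : StructuredArrow (ovS w) (toOv U₀.left)}
    (g : a ⟶ b) : sMap a ≫ (ProEtS.eps X).map ((toX U₀).map g.right) = sMap b :=
  MorphismProperty.Over.Hom.ext (congrArg (fun f => f.left) (StructuredArrow.w g))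

theorem sMap_base {w : W ⟶ (ProEtS.eps X).obj U₀} (a : StructuredArrow (ovS w) (toOv U₀.left)) :
    sMap a ≫ (ProEtS.eps X).map (toXBase U₀ a.right) = w :=
  MorphismProperty.Over.Hom.ext (CategoryTheory.Over.w a.hom)

variable (f : P ⟶ W) (w : W ⟶ (ProEtS.eps X).obj U₀)

/-- a map over `U₀` -/
noncomputable abbrev ovHom : ovS (f ≫ w) ⟶ ovS w := CategoryTheory.Over.homMk (show P.left ⟶ W.left from f.left)

/-- stages of a map -/
abbrev MapStage := ArrStage (toOv U₀.left) (ovHom f w)

variable {f w}

/-- the map of a stage -/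
noncomputable abbrev cX (k : MapStage f w) : (toX U₀).obj k.right.left ⟶ (toX U₀).obj k.right.right :=
  (toX U₀).map k.right.hom

/-- fibre powers of a stage -/
noncomputable abbrev pk (k : MapStage f w) : Powers (cX k) :=
  @etPowers X _ _ (cX k) (EtFound.etale_left (cX k))

theorem eps_hom_ext {k : MapStage f w} {n : ℕ} {T : X.ProEt}
    (g g' : T ⟶ (ProEtS.eps X).obj ((pk k).obj n))
    (h : ∀ i, g ≫ (ProEtS.eps X).map ((pk k).pr n i) = g' ≫ (ProEtS.eps X).map ((pk k).pr n i)) : g = g' :=
  MorphismProperty.Over.Hom.ext (schPow_hom_ext (cX k).left n g.left g'.left fun i =>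
    congrArg (fun e => e.left) (h i))

theorem sMap_comm (k : MapStage f w) :
    sMap k.src ≫ (ProEtS.eps X).map (cX k) = f ≫ sMap k.tgt :=
  MorphismProperty.Over.Hom.ext (congrArg (fun e => e.left) (Arrow.w k.hom))

theorem exists_gam (k : MapStage f w) (n : ℕ) :
    ∃ g : (proPowers f).obj n ⟶ (ProEtS.eps X).obj ((pk k).obj n),
      ∀ i, g ≫ (ProEtS.eps X).map ((pk k).pr n i) = (proPowers f).pr n i ≫ sMap k.src := by
  have hq : ∀ i, ((proPowers f).pr n i ≫ sMap k.src) ≫ (ProEtS.eps X).map (cX k) = (proPowers f).toBase n ≫ sMap k.tgt := fun i => by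
    rw [Category.assoc, sMap_comm, ← Category.assoc, (proPowers f).pr_comp]
  obtain ⟨l, hl⟩ := exists_schLift (cX k).left n ((proPowers f).toBase n ≫ sMap k.tgt).left
    (fun i => ((proPowers f).pr n i ≫ sMap k.src).left) fun i => congrArg (fun e => e.left) (hq i)
  have hlw : l ≫ (schPow (cX k).left n).hom = ((proPowers f).toBase n ≫ sMap k.tgt).left := by
    rw [← schPr_comp (cX k).left n 0, ← Category.assoc, hl]
    exact congrArg (fun e => e.left) (hq 0)
  refine ⟨MorphismProperty.Over.homMk l ?_, fun i => MorphismProperty.Over.Hom.ext (hl i)⟩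
  change l ≫ (schPow (cX k).left n).hom ≫ ((toX U₀).obj k.right.right).hom = _
  rw [← Category.assoc, hlw]
  exact MorphismProperty.Over.w ((proPowers f).toBase n ≫ sMap k.tgt)

/-- the comparison with the powers of a stage -/
noncomputable def gam (k : MapStage f w) (n : ℕ) : (proPowers f).obj n ⟶ (ProEtS.eps X).obj ((pk k).obj n) :=
  (exists_gam k n).choose

theorem gam_pr (k : MapStage f w) (n : ℕ) (i : Fin (n + 1)) :
    gam k n ≫ (ProEtS.eps X).map ((pk k).pr n i) = (proPowers f).pr n i ≫ sMap k.src :=
  (exists_gam k n).choose_spec i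

theorem gam_toBase (k : MapStage f w) (n : ℕ) :
    gam k n ≫ (ProEtS.eps X).map ((pk k).toBase n) = (proPowers f).toBase n ≫ sMap k.tgt := by
  rw [← (pk k).pr_comp n 0, Functor.map_comp, ← Category.assoc, gam_pr, Category.assoc, sMap_comm,
    ← Category.assoc, (proPowers f).pr_comp]

theorem gam_face (k : MapStage f w) (n : ℕ) (j : Fin (n + 2)) :
    (proPowers f).face n j ≫ gam k n = gam k (n + 1) ≫ (ProEtS.eps X).map ((pk k).face n j) :=
  eps_hom_ext _ _ fun i => by
    rw [Category.assoc, Category.assoc, gam_pr, ← Functor.map_comp, (pk k).face_pr, gam_pr,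
      ← Category.assoc, (proPowers f).face_pr]

theorem srcMap_comm {k l : MapStage f w} (g : k ⟶ l) :
    (toX U₀).map g.right.left ≫ cX l = cX k ≫ (toX U₀).map g.right.right := by
  rw [← Functor.map_comp, ← Functor.map_comp]
  exact congrArg _ (Arrow.w g.right)

/-- transition maps of powers of stages -/
noncomputable def pm {k l : MapStage f w} (g : k ⟶ l) (n : ℕ) : (pk k).obj n ⟶ (pk l).obj n :=
  (pk l).lift n ((pk k).toBase n ≫ (toX U₀).map g.right.right)
    (fun i => (pk k).pr n i ≫ (toX U₀).map g.right.left) fun i => by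
      rw [Category.assoc, srcMap_comm, ← Category.assoc, (pk k).pr_comp]

theorem pm_pr {k l : MapStage f w} (g : k ⟶ l) (n : ℕ) (i : Fin (n + 1)) :
    pm g n ≫ (pk l).pr n i = (pk k).pr n i ≫ (toX U₀).map g.right.left :=
  (pk l).lift_pr _ _ _ _ i

theorem pm_toBase {k l : MapStage f w} (g : k ⟶ l) (n : ℕ) :
    pm g n ≫ (pk l).toBase n = (pk k).toBase n ≫ (toX U₀).map g.right.right :=
  (pk l).lift_toBase _ _ _

theorem pm_face {k l : MapStage f w} (g : k ⟶ l) (n : ℕ) (j : Fin (n + 2)) :
    (pk k).face n j ≫ pm g n = pm g (n + 1) ≫ (pk l).face n j :=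
  (pk l).hom_ext n _ _ fun i => by
    rw [Category.assoc, Category.assoc, pm_pr, (pk l).face_pr, pm_pr, ← Category.assoc, (pk k).face_pr]

theorem gam_pm {k l : MapStage f w} (g : k ⟶ l) (n : ℕ) :
    gam k n ≫ (ProEtS.eps X).map (pm g n) = gam l n :=
  eps_hom_ext _ _ fun i => by
    rw [Category.assoc, ← Functor.map_comp, pm_pr, Functor.map_comp, ← Category.assoc, gam_pr, gam_pr,
      Category.assoc]
    congr 1
    exact sMap_map ((srcFunctor (toOv U₀.left) (ovHom f w)).map g)

variable (f w) in
/-- the powers of the stages over `U₀` -/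
noncomputable def powDiag (n : ℕ) : MapStage f w ⥤ Over U₀.left where
  obj k := CategoryTheory.Over.mk ((pk k).toBase n ≫ toXBase U₀ k.right.right).left
  map {k l} g := CategoryTheory.Over.homMk (pm g n).left (by
    refine congrArg (fun e => e.left) (show pm g n ≫ (pk l).toBase n ≫ toXBase U₀ l.right.right =
      (pk k).toBase n ≫ toXBase U₀ k.right.right from ?_)
    rw [← Category.assoc, pm_toBase, Category.assoc]
    congr 1
    exact MorphismProperty.Over.Hom.ext (CategoryTheory.Over.w ((toOv U₀.left).map g.right.right)))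
  map_id k := CategoryTheory.Over.OverMorphism.ext (congrArg (fun e => e.left) (show pm (𝟙 k) n = 𝟙 _ from
    (pk k).hom_ext n _ _ fun i => by
      rw [pm_pr]
      exact (congrArg _ ((toX U₀).map_id _)).trans ((Category.comp_id _).trans (Category.id_comp _).symm)))
  map_comp {k l m} g h := CategoryTheory.Over.OverMorphism.ext (congrArg (fun e => e.left)
    (show pm (g ≫ h) n = pm g n ≫ pm h n from (pk m).hom_ext n _ _ fun i => by
      rw [pm_pr, Category.assoc, pm_pr, ← Category.assoc, pm_pr, Category.assoc, ← Functor.map_comp]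
      rfl))

instance isAffine_powDiag (n : ℕ) (k : MapStage f w) : IsAffine ((powDiag f w n).obj k).left :=
  @isAffine_schPow _ _ (cX k).left (isAffine_toOv k.right.left) (isAffine_toOv k.right.right) n

instance etale_powDiag (n : ℕ) (k : MapStage f w) : Etale ((powDiag f w n).obj k).hom :=
  EtFound.etale_left ((pk k).toBase n ≫ toXBase U₀ k.right.right)

/-- a fibre power over `U₀` -/
noncomputable abbrev powOv (f : P ⟶ W) (w : W ⟶ (ProEtS.eps X).obj U₀) (n : ℕ) : Over U₀.left :=
  ovS ((proPowers f).toBase n ≫ w)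

/-- the cone of powers of stages -/
noncomputable def powPi (n : ℕ) : (Functor.const (MapStage f w)).obj (powOv f w n) ⟶ powDiag f w n where
  app k := CategoryTheory.Over.homMk (gam k n).left (by
    refine congrArg (fun e => e.left) (show gam k n ≫ (ProEtS.eps X).map
      ((pk k).toBase n ≫ toXBase U₀ k.right.right) = (proPowers f).toBase n ≫ w from ?_)
    rw [Functor.map_comp, ← Category.assoc, gam_toBase, Category.assoc]
    exact congrArg ((proPowers f).toBase n ≫ ·) (sMap_base k.tgt))
  naturality k l g := CategoryTheory.Over.OverMorphism.ext (by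
    change 𝟙 _ ≫ (gam l n).left = (gam k n).left ≫ (pm g n).left
    rw [Category.id_comp]
    exact congrArg (fun e => e.left) (gam_pm g n).symm)

/-- fibre powers of limits are limits of fibre powers -/
theorem nonempty_isLimit_pow (hW : IsPro (ovS w)) (hP : IsPro (ovS (f ≫ w))) (n : ℕ) :
    Nonempty (IsLimit ((CategoryTheory.Over.forget _).mapCone (Cone.mk (powOv f w n) (powPi n)))) := by
  obtain ⟨hW'⟩ := hW.isLimit
  obtain ⟨hP'⟩ := hP.isLimit
  let lW := (Functor.Initial.isLimitWhiskerEquiv (tgtFunctor (toOv U₀.left) (ovHom f w)) _).symm hW'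
  let lP := (Functor.Initial.isLimitWhiskerEquiv (srcFunctor (toOv U₀.left) (ovHom f w)) _).symm hP'
  let S' := stageDiag (ovS (f ≫ w))
  let sP : ∀ (s : Cone (powDiag f w n ⋙ CategoryTheory.Over.forget _)) (i : Fin (n + 1)),
      Cone (srcFunctor (toOv U₀.left) (ovHom f w) ⋙ stageDiag (ovS (f ≫ w))) := fun s i =>
    { pt := s.pt
      π :=
        { app := fun k => s.π.app k ≫ ((pk k).pr n i).left
          naturality := fun k l g => by
            change 𝟙 _ ≫ s.π.app l ≫ _ = (s.π.app k ≫ _) ≫ ((toX U₀).map g.right.left).left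
            rw [Category.id_comp, Category.assoc]
            refine Eq.trans ?_ (congrArg (s.π.app k ≫ ·) (congrArg (fun e => e.left) (pm_pr g n i)))
            refine Eq.trans ?_ (Category.assoc _ _ _)
            exact congrArg (· ≫ ((pk l).pr n i).left) (s.w g).symm } }
  have hlift : ∀ (s : Cone (powDiag f w n ⋙ CategoryTheory.Over.forget _)),
      ∃ m : s.pt ⟶ ((proPowers f).obj n).left, ∀ k, m ≫ (gam k n).left = s.π.app k := by
    intro s
    let t : Fin (n + 1) → (s.pt ⟶ P.left) := fun i => lP.lift (sP s i)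
    have hfac : ∀ i (k : MapStage f w), t i ≫ (sMap k.src).left = s.π.app k ≫ ((pk k).pr n i).left :=
      fun i k => lP.fac (sP s i) k
    have hq : ∀ i, t i ≫ f.left = t 0 ≫ f.left := by
      intro i
      refine lW.hom_ext fun k => ?_
      have h1 : ∀ i, (t i ≫ f.left) ≫ (sMap k.tgt).left = s.π.app k ≫ ((pk k).toBase n).left := fun i => by
        rw [Category.assoc]
        refine (congrArg (t i ≫ ·) (congrArg (fun e => e.left) (sMap_comm k)).symm).trans ?_
        refine (Category.assoc _ _ _).symm.trans ((congrArg (· ≫ (cX k).left) (hfac i k)).trans ?_)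
        rw [Category.assoc]
        exact congrArg (s.π.app k ≫ ·) (congrArg (fun e => e.left) ((pk k).pr_comp n i))
      exact (h1 i).trans (h1 0).symm
    have hT : ∃ (m : s.pt ⟶ ((proPowers f).obj n).left), ∀ i, m ≫ ((proPowers f).pr n i).left = t i :=
      exists_schLift f.left n (t 0 ≫ f.left) t hq
    obtain ⟨m, hm⟩ := hT
    refine ⟨m, fun k => schPow_hom_ext (cX k).left n _ _ fun i => ?_⟩
    refine (Category.assoc _ _ _).trans ?_
    refine (congrArg (m ≫ ·) (congrArg (fun e => e.left) (gam_pr k n i))).trans ?_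
    exact (Category.assoc _ _ _).symm.trans ((congrArg (· ≫ (sMap k.src).left) (hm i)).trans (hfac i k))
  exact ⟨{
    lift := fun s => (hlift s).choose
    fac := fun s k => (hlift s).choose_spec k
    uniq := fun s m hm => by
      refine schPow_hom_ext f.left n _ _ fun i => lP.hom_ext fun k => ?_
      have h1 : ∀ (m' : s.pt ⟶ ((proPowers f).obj n).left), m' ≫ (gam k n).left = s.π.app k →
          (m' ≫ schPr f.left n i) ≫ (sMap k.src).left = s.π.app k ≫ ((pk k).pr n i).left := fun m' hm' => by
        rw [Category.assoc]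
        refine (congrArg (m' ≫ ·) (congrArg (fun e => e.left) (gam_pr k n i)).symm).trans ?_
        exact (Category.assoc _ _ _).symm.trans (congrArg (· ≫ ((pk k).pr n i).left) hm')
      exact (h1 m (hm k)).trans (h1 _ ((hlift s).choose_spec k)).symm }⟩

end Groth.Agent.ProStage
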