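import Mathlib.CategoryTheory.Filtered.Final
import Mathlib.CategoryTheory.Comma.Arrow
import Mathlib.CategoryTheory.Comma.StructuredArrow.Basic

/-! stages of an arrow: structured arrows into `F.mapArrow` -/

universe v₁ v₂ u₁ u₂

open CategoryTheory

namespace Groth.Agent.ProStage

variable {C : Type u₁} [Category.{v₁} C] {D : Type u₂} [Category.{v₂} D] (F : C ⥤ D)
  [∀ d, IsCofiltered (StructuredArrow d F)] {W' W : D} (f : W' ⟶ W)

/-- stages of an arrow -/
abbrev ArrStage := StructuredArrow (Arrow.mk f) F.mapArrow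

variable {F f}

/-- the target of a stage -/
abbrev ArrStage.tgt (k : ArrStage F f) : StructuredArrow W F :=
  StructuredArrow.mk (Y := k.right.right) k.hom.right

/-- the source of a stage -/
abbrev ArrStage.src (k : ArrStage F f) : StructuredArrow W' F :=
  StructuredArrow.mk (Y := k.right.left) k.hom.left

/-- assembling a stage -/
abbrev ArrStage.mk' (a : StructuredArrow W' F) (b : StructuredArrow W F) (c : a.right ⟶ b.right)
    (h : a.hom ≫ F.map c = f ≫ b.hom) : ArrStage F f :=
  StructuredArrow.mk (Y := Arrow.mk c) (Arrow.homMk a.hom b.hom h)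

/-- assembling a map of stages -/
abbrev ArrStage.homMk' {k l : ArrStage F f} (p : k.src ⟶ l.src) (q : k.tgt ⟶ l.tgt)
    (h : p.right ≫ l.right.hom = k.right.hom ≫ q.right) : k ⟶ l :=
  StructuredArrow.homMk (Arrow.homMk p.right q.right h)
    (Arrow.hom_ext _ _ (StructuredArrow.w p) (StructuredArrow.w q))

variable (F f)

theorem exists_eq {X : D} (a : StructuredArrow X F) {y : C} (g g' : a.right ⟶ y)
    (h : a.hom ≫ F.map g = a.hom ≫ F.map g') :
    ∃ (a' : StructuredArrow X F) (p : a' ⟶ a), p.right ≫ g = p.right ≫ g' := by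
  let b : StructuredArrow X F := StructuredArrow.mk (a.hom ≫ F.map g)
  exact ⟨_, IsCofiltered.eqHom (StructuredArrow.homMk g : a ⟶ b) (StructuredArrow.homMk g' h.symm),
    congrArg (fun e => e.right) (IsCofiltered.eq_condition (StructuredArrow.homMk g : a ⟶ b)
      (StructuredArrow.homMk g' h.symm))⟩

/-- any pair can be refined to a stage -/
theorem exists_stage (a : StructuredArrow W' F) (b : StructuredArrow W F) :
    ∃ (k : ArrStage F f) (_ : k.src ⟶ a), k.tgt = b := by
  let b' : StructuredArrow W' F := StructuredArrow.mk (f ≫ b.hom)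
  let a' := IsCofiltered.min a b'
  exact ⟨ArrStage.mk' a' b (IsCofiltered.minToRight a b').right
    (StructuredArrow.w (IsCofiltered.minToRight a b')), IsCofiltered.minToLeft a b', rfl⟩

instance isCofiltered_arrStage : IsCofiltered (ArrStage F f) where
  nonempty := ⟨(exists_stage F f IsCofiltered.nonempty.some IsCofiltered.nonempty.some).choose⟩
  cone_objs k l := by
    let b := IsCofiltered.min k.tgt l.tgt
    let a := IsCofiltered.min k.src l.src
    let qk := IsCofiltered.minToLeft k.tgt l.tgt
    let ql := IsCofiltered.minToRight k.tgt l.tgt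
    let pk := IsCofiltered.minToLeft k.src l.src
    let pl := IsCofiltered.minToRight k.src l.src
    obtain ⟨m, r, hm⟩ := exists_stage F f a b
    obtain ⟨m, rfl⟩ : ∃ m', m' = m := ⟨m, rfl⟩
    let c : m.src.right ⟶ b.right := m.right.hom ≫ eqToHom (congrArg (fun e => e.right) hm)
    have hc : m.src.hom ≫ F.map c = f ≫ b.hom := by
      have h1 : m.src.hom ≫ F.map m.right.hom = f ≫ m.tgt.hom := Arrow.w m.hom
      rw [Functor.map_comp, reassoc_of% h1, ← StructuredArrow.w (eqToHom hm), StructuredArrow.eqToHom_right]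
    have hk : m.src.hom ≫ F.map ((r ≫ pk).right ≫ k.right.hom) = m.src.hom ≫ F.map (c ≫ qk.right) := by
      rw [Functor.map_comp, ← Category.assoc, StructuredArrow.w, Functor.map_comp, reassoc_of% hc,
        StructuredArrow.w]
      exact Arrow.w k.hom
    have hl : m.src.hom ≫ F.map ((r ≫ pl).right ≫ l.right.hom) = m.src.hom ≫ F.map (c ≫ ql.right) := by
      rw [Functor.map_comp, ← Category.assoc, StructuredArrow.w, Functor.map_comp, reassoc_of% hc,
        StructuredArrow.w]
      exact Arrow.w l.hom
    obtain ⟨a₁, p₁, h₁⟩ := exists_eq F m.src _ _ hk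
    obtain ⟨a₂, p₂, h₂⟩ := exists_eq F a₁ (p₁.right ≫ (r ≫ pl).right ≫ l.right.hom)
      (p₁.right ≫ c ≫ ql.right) (by rw [Functor.map_comp, reassoc_of% (StructuredArrow.w p₁), hl,
        Functor.map_comp _ p₁.right, reassoc_of% (StructuredArrow.w p₁)])
    refine ⟨ArrStage.mk' a₂ b ((p₂ ≫ p₁).right ≫ c)
      (by rw [Functor.map_comp, ← Category.assoc, StructuredArrow.w, hc]),
      ArrStage.homMk' (p₂ ≫ p₁ ≫ r ≫ pk) qk ?_, ArrStage.homMk' (p₂ ≫ p₁ ≫ r ≫ pl) ql ?_, trivial⟩
    · change _ = ((p₂ ≫ p₁).right ≫ c) ≫ qk.right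
      simp only [StructuredArrow.comp_right, Category.assoc] at h₁ ⊢
      exact congrArg (p₂.right ≫ ·) h₁
    · change _ = ((p₂ ≫ p₁).right ≫ c) ≫ ql.right
      simp only [StructuredArrow.comp_right, Category.assoc] at h₂ ⊢
      exact h₂
  cone_maps k l g h := by
    let qg : k.tgt ⟶ l.tgt := StructuredArrow.homMk g.right.right (congrArg (fun e => e.right) (StructuredArrow.w g))
    let qh : k.tgt ⟶ l.tgt := StructuredArrow.homMk h.right.right (congrArg (fun e => e.right) (StructuredArrow.w h))
    let pg : k.src ⟶ l.src := StructuredArrow.homMk g.right.left (congrArg (fun e => e.left) (StructuredArrow.w g))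
    let ph : k.src ⟶ l.src := StructuredArrow.homMk h.right.left (congrArg (fun e => e.left) (StructuredArrow.w h))
    let b := IsCofiltered.eq qg qh
    let q := IsCofiltered.eqHom qg qh
    let a := IsCofiltered.eq pg ph
    let p := IsCofiltered.eqHom pg ph
    obtain ⟨m, r, hm⟩ := exists_stage F f a b
    let c : m.src.right ⟶ b.right := m.right.hom ≫ eqToHom (congrArg (fun e => e.right) hm)
    have hc : m.src.hom ≫ F.map c = f ≫ b.hom := by
      have h1 : m.src.hom ≫ F.map m.right.hom = f ≫ m.tgt.hom := Arrow.w m.hom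
      rw [Functor.map_comp, reassoc_of% h1, ← StructuredArrow.w (eqToHom hm), StructuredArrow.eqToHom_right]
    obtain ⟨a₁, p₁, h₁⟩ := exists_eq F m.src ((r ≫ p).right ≫ k.right.hom) (c ≫ q.right) (by
      rw [Functor.map_comp, ← Category.assoc, StructuredArrow.w, Functor.map_comp, reassoc_of% hc,
        StructuredArrow.w]
      exact Arrow.w k.hom)
    refine ⟨ArrStage.mk' a₁ b (p₁.right ≫ c) (by rw [Functor.map_comp, ← Category.assoc, StructuredArrow.w, hc]),
      ArrStage.homMk' (p₁ ≫ r ≫ p) q (by
        change _ = (p₁.right ≫ c) ≫ q.right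
        simpa only [StructuredArrow.comp_right, Category.assoc] using h₁),
      StructuredArrow.ext _ _ (Arrow.hom_ext _ _ ?_ ?_)⟩
    · exact congrArg (fun e => e.right) (show (p₁ ≫ r ≫ p) ≫ pg = (p₁ ≫ r ≫ p) ≫ ph by
        rw [Category.assoc, Category.assoc, Category.assoc, Category.assoc, show p ≫ pg = p ≫ ph from IsCofiltered.eq_condition pg ph])
    · exact congrArg (fun e => e.right) (IsCofiltered.eq_condition qg qh)

/-- projection to the targets -/
abbrev tgtFunctor : ArrStage F f ⥤ StructuredArrow W F where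
  obj k := k.tgt
  map g := StructuredArrow.homMk g.right.right (congrArg (fun e => e.right) (StructuredArrow.w g))

/-- projection to the sources -/
abbrev srcFunctor : ArrStage F f ⥤ StructuredArrow W' F where
  obj k := k.src
  map g := StructuredArrow.homMk g.right.left (congrArg (fun e => e.left) (StructuredArrow.w g))

instance initial_srcFunctor : (srcFunctor F f).Initial := by
  refine Functor.initial_of_exists_of_isCofiltered _ (fun a => ?_) fun {a k} s s' => ?_
  · obtain ⟨k, r, -⟩ := exists_stage F f a IsCofiltered.nonempty.some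
    exact ⟨k, ⟨r⟩⟩
  · exact ⟨ArrStage.mk' (IsCofiltered.eq s s') k.tgt ((IsCofiltered.eqHom s s').right ≫ k.right.hom)
      (by rw [Functor.map_comp, ← Category.assoc, StructuredArrow.w]; exact Arrow.w k.hom),
      ArrStage.homMk' (IsCofiltered.eqHom s s') (𝟙 k.tgt) (Category.comp_id _).symm,
      (StructuredArrow.ext _ _ (congrArg (fun e => e.right) (IsCofiltered.eq_condition s s') : _))⟩

instance initial_tgtFunctor : (tgtFunctor F f).Initial := by
  refine Functor.initial_of_exists_of_isCofiltered _ (fun b => ?_) fun {b k} s s' => ?_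
  · obtain ⟨k, -, hk⟩ := exists_stage F f IsCofiltered.nonempty.some b
    exact ⟨k, ⟨eqToHom hk⟩⟩
  · let b₁ := IsCofiltered.eq s s'
    let q := IsCofiltered.eqHom s s'
    obtain ⟨m, r, hm⟩ := exists_stage F f k.src b₁
    let c : m.src.right ⟶ b₁.right := m.right.hom ≫ eqToHom (congrArg (fun e => e.right) hm)
    have hc : m.src.hom ≫ F.map c = f ≫ b₁.hom := by
      have h1 : m.src.hom ≫ F.map m.right.hom = f ≫ m.tgt.hom := Arrow.w m.hom
      rw [Functor.map_comp, reassoc_of% h1, ← StructuredArrow.w (eqToHom hm), StructuredArrow.eqToHom_right]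
    obtain ⟨a₁, p₁, h₁⟩ := exists_eq F m.src (r.right ≫ k.right.hom) (c ≫ q.right) (by
      rw [Functor.map_comp, ← Category.assoc, StructuredArrow.w, Functor.map_comp, reassoc_of% hc,
        StructuredArrow.w]
      exact Arrow.w k.hom)
    exact ⟨ArrStage.mk' a₁ b₁ (p₁.right ≫ c) (by rw [Functor.map_comp, ← Category.assoc, StructuredArrow.w, hc]),
      ArrStage.homMk' (p₁ ≫ r) q (by
        change _ = (p₁.right ≫ c) ≫ q.right
        simpa only [StructuredArrow.comp_right, Category.assoc] using h₁),
      (StructuredArrow.ext _ _ (congrArg (fun e => e.right) (IsCofiltered.eq_condition s s') : _))⟩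

end Groth.Agent.ProStage
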