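import Groth.Agent.ProStage.ArrowFlat
import Groth.Agent.IndEtLib.Sys
import Mathlib.AlgebraicGeometry.Sites.AffineEtale
import Mathlib.AlgebraicGeometry.AffineTransitionLimit

/-! affine etale stages over an affine base; schemes that are limits of their stages -/

universe u

open CategoryTheory CategoryTheory.Limits AlgebraicGeometry Opposite

namespace Groth.Agent.ProStage

set_option backward.isDefEq.respectTransparency.types false

variable (S : Scheme.{u}) [IsAffine S]

/-- a small model of the affine schemes etale over `S` -/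
abbrev SEt : Type u := SmallModel.{u} S.AffineEtale

/-- the stage schemes -/
noncomputable abbrev toOv : SEt S ⥤ Over S :=
  (equivSmallModel.{u} S.AffineEtale).inverse ⋙ Scheme.AffineEtale.Spec S ⋙ Scheme.Etale.forget S

variable {S}

instance isAffine_toOv (t : SEt S) : IsAffine ((toOv S).obj t).left :=
  inferInstanceAs (IsAffine (Spec _))

instance etale_toOv (t : SEt S) : Etale ((toOv S).obj t).hom :=
  (((equivSmallModel.{u} S.AffineEtale).inverse ⋙ Scheme.AffineEtale.Spec S).obj t).prop

theorem exists_obj_iso (T : Over S) [IsAffine T.left] [Etale T.hom] :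
    (toOv S).essImage T :=
  ⟨(equivSmallModel.{u} S.AffineEtale).functor.obj (Scheme.AffineEtale.mk (T.left.isoSpec.inv ≫ T.hom)),
    ⟨(Scheme.AffineEtale.Spec S ⋙ Scheme.Etale.forget S).mapIso
      ((equivSmallModel.{u} S.AffineEtale).unitIso.app _).symm ≪≫
      Over.isoMk T.left.isoSpec.symm rfl⟩⟩

theorem exists_stage_obj {W : Over S} (T : Over S) [IsAffine T.left] [Etale T.hom] (a : W ⟶ T) :
    ∃ (b : StructuredArrow W (toOv S)) (e : (toOv S).obj b.right ≅ T), b.hom ≫ e.hom = a := by
  obtain ⟨t, ⟨e⟩⟩ := exists_obj_iso T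
  exact ⟨StructuredArrow.mk (a ≫ e.inv), e, by simp⟩

instance isCofiltered_stage (W : Over S) : IsCofiltered (StructuredArrow W (toOv S)) where
  nonempty := by
    have : IsAffine (Over.mk (𝟙 S)).left := inferInstanceAs (IsAffine S)
    have : Etale (Over.mk (𝟙 S)).hom := inferInstanceAs (Etale (𝟙 S))
    obtain ⟨b, -, -⟩ := exists_stage_obj (W := W) (Over.mk (𝟙 S)) (Over.homMk W.hom (Category.comp_id _))
    exact ⟨b⟩
  cone_objs a b := by
    let A := (toOv S).obj a.right
    let B := (toOv S).obj b.right
    let T : Over S := Over.mk (pullback.fst A.hom B.hom ≫ A.hom)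
    have : IsAffine T.left := inferInstanceAs (IsAffine (pullback A.hom B.hom))
    have : Etale T.hom := inferInstanceAs (Etale (pullback.fst A.hom B.hom ≫ A.hom))
    let p : T ⟶ A := Over.homMk (pullback.fst A.hom B.hom)
    let q : T ⟶ B := Over.homMk (pullback.snd A.hom B.hom) pullback.condition.symm
    obtain ⟨c, e, hc⟩ := exists_stage_obj T (Over.homMk (pullback.lift a.hom.left b.hom.left
      ((Over.w a.hom).trans (Over.w b.hom).symm))
      (by change _ ≫ pullback.fst _ _ ≫ A.hom = _; rw [pullback.lift_fst_assoc]; exact Over.w a.hom))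
    refine ⟨c, StructuredArrow.homMk ((toOv S).preimage (e.hom ≫ p)) ?_,
      StructuredArrow.homMk ((toOv S).preimage (e.hom ≫ q)) ?_, trivial⟩
    · rw [Functor.map_preimage, reassoc_of% hc]
      exact Over.OverMorphism.ext (pullback.lift_fst _ _ _)
    · rw [Functor.map_preimage, reassoc_of% hc]
      exact Over.OverMorphism.ext (pullback.lift_snd _ _ _)
  cone_maps a b g h := by
    let A := (toOv S).obj a.right
    let B := (toOv S).obj b.right
    let g' : A ⟶ B := (toOv S).map g.right
    let h' : A ⟶ B := (toOv S).map h.right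
    let l : A.left ⟶ pullback B.hom B.hom := pullback.lift g'.left h'.left ((Over.w g').trans (Over.w h').symm)
    let T : Over S := Over.mk (pullback.fst l (pullback.diagonal B.hom) ≫ A.hom)
    have : IsAffine T.left := inferInstanceAs (IsAffine (pullback l (pullback.diagonal B.hom)))
    have : Etale T.hom := inferInstanceAs (Etale (pullback.fst l (pullback.diagonal B.hom) ≫ A.hom))
    let p : T ⟶ A := Over.homMk (pullback.fst l (pullback.diagonal B.hom))
    have hp : p ≫ g' = p ≫ h' := by
      refine Over.OverMorphism.ext ?_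
      have h0 := pullback.condition (f := l) (g := pullback.diagonal B.hom)
      have h1 := congrArg (· ≫ pullback.fst B.hom B.hom) h0
      have h2 := congrArg (· ≫ pullback.snd B.hom B.hom) h0
      simp only [l, Category.assoc, pullback.lift_fst, pullback.diagonal_fst, Category.comp_id] at h1
      simp only [l, Category.assoc, pullback.lift_snd, pullback.diagonal_snd, Category.comp_id] at h2
      exact h1.trans h2.symm
    obtain ⟨c, e, hc⟩ := exists_stage_obj T (Over.homMk (pullback.lift a.hom.left (a.hom ≫ g').left (by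
        refine pullback.hom_ext ?_ ?_
        · simp only [l, Category.assoc, pullback.lift_fst, pullback.diagonal_fst, Category.comp_id]
          exact congrArg (fun f => f.left) (rfl : a.hom ≫ g' = a.hom ≫ g')
        · simp only [l, Category.assoc, pullback.lift_snd, pullback.diagonal_snd, Category.comp_id]
          exact congrArg (fun f => f.left) ((StructuredArrow.w h).trans (StructuredArrow.w g).symm)))
      (by change _ ≫ pullback.fst _ _ ≫ A.hom = _; rw [pullback.lift_fst_assoc]; exact Over.w a.hom))
    refine ⟨c, StructuredArrow.homMk ((toOv S).preimage (e.hom ≫ p)) ?_, StructuredArrow.ext _ _ ?_⟩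
    · rw [Functor.map_preimage, reassoc_of% hc]
      exact Over.OverMorphism.ext (pullback.lift_fst _ _ _)
    · apply (toOv S).map_injective
      simp only [StructuredArrow.comp_right, StructuredArrow.homMk_right, Functor.map_comp,
        Functor.map_preimage, Category.assoc]
      exact congrArg (e.hom ≫ ·) hp

/-- the diagram of stages -/
noncomputable abbrev stageDiag (W : Over S) : StructuredArrow W (toOv S) ⥤ Scheme.{u} :=
  StructuredArrow.proj W (toOv S) ⋙ toOv S ⋙ Over.forget S

/-- the cone of stages -/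
noncomputable abbrev stageCone (W : Over S) : Cone (stageDiag W) where
  pt := W.left
  π :=
    { app := fun a => a.hom.left
      naturality := fun a b g => by
        change 𝟙 _ ≫ b.hom.left = _
        rw [Category.id_comp]
        exact congrArg (fun f => f.left) (StructuredArrow.w g).symm }

/-- `W` is the limit of its affine etale stages -/
structure IsPro (W : Over S) : Prop where
  isAffine : IsAffine W.left
  isLimit : Nonempty (IsLimit (stageCone W))

section Factor

variable {I : Type u} [Category.{u} I] [IsCofiltered I] {W : Over S} (G : I ⥤ Over S)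
  [∀ i, IsAffine (G.obj i).left] (π : (Functor.const I).obj W ⟶ G)
  (hc : IsLimit ((Over.forget S).mapCone (Cone.mk W π)))

include hc

/-- maps to finitely presented schemes over the base factor through a member -/
theorem exists_factor (T : Over S) [LocallyOfFinitePresentation T.hom] (a : W ⟶ T) :
    ∃ (i : I) (g : G.obj i ⟶ T), π.app i ≫ g = a := by
  let t : G ⋙ Over.forget S ⟶ (Functor.const I).obj S :=
    { app := fun i => (G.obj i).hom
      naturality := fun i j f => (Over.w (G.map f)).trans (Category.comp_id _).symm }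
  have : ∀ {i j : I} (f : i ⟶ j), IsAffineHom ((G ⋙ Over.forget S).map f) := fun {i j} f =>
    @isAffineHom_of_isAffine _ _ _ (inferInstanceAs (IsAffine (G.obj i).left))
      (inferInstanceAs (IsAffine (G.obj j).left))
  have : ∀ i, CompactSpace ((G ⋙ Over.forget S).obj i) := fun i =>
    inferInstanceAs (CompactSpace (G.obj i).left)
  have : ∀ i, QuasiSeparatedSpace ((G ⋙ Over.forget S).obj i) := fun i =>
    inferInstanceAs (QuasiSeparatedSpace (G.obj i).left)
  obtain ⟨i, g, h1, h2⟩ := Scheme.exists_π_app_comp_eq_of_locallyOfFinitePresentation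
    (G ⋙ Over.forget S) t T.hom _ hc (a.left : W.left ⟶ T.left) (by
      ext i
      exact (Over.w (π.app i)).trans (Over.w a).symm)
  exact ⟨i, Over.homMk g h2, Over.OverMorphism.ext h1⟩

/-- two maps agreeing on the limit agree on a member -/
theorem exists_equalizing (T : Over S) [LocallyOfFiniteType T.hom] {i : I} (g g' : G.obj i ⟶ T)
    (h : π.app i ≫ g = π.app i ≫ g') : ∃ (j : I) (f : j ⟶ i), G.map f ≫ g = G.map f ≫ g' := by
  let t : G ⋙ Over.forget S ⟶ (Functor.const I).obj S :=
    { app := fun i => (G.obj i).hom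
      naturality := fun i j f => (Over.w (G.map f)).trans (Category.comp_id _).symm }
  have : ∀ {i j : I} (f : i ⟶ j), IsAffineHom ((G ⋙ Over.forget S).map f) := fun {i j} f =>
    @isAffineHom_of_isAffine _ _ _ (inferInstanceAs (IsAffine (G.obj i).left))
      (inferInstanceAs (IsAffine (G.obj j).left))
  have : ∀ i, CompactSpace ((G ⋙ Over.forget S).obj i) := fun i =>
    inferInstanceAs (CompactSpace (G.obj i).left)
  obtain ⟨j, f, hf⟩ := Scheme.exists_hom_comp_eq_comp_of_locallyOfFiniteType
    (G ⋙ Over.forget S) t T.hom _ hc (i := i) g.left g'.left (Over.w g).symm (Over.w g').symm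
    (congrArg (fun f => f.left) h)
  exact ⟨j, f, Over.OverMorphism.ext hf⟩

end Factor

variable {I : Type u} [Category.{u} I] [IsCofiltered I] {W : Over S}

/-- a limit of affine etale schemes is the limit of all its stages -/
theorem isPro_of_isLimit [IsAffine W.left] (G : I ⥤ Over S) [∀ i, IsAffine (G.obj i).left]
    [∀ i, Etale (G.obj i).hom] (π : (Functor.const I).obj W ⟶ G)
    (hc : IsLimit ((Over.forget S).mapCone (Cone.mk W π))) : IsPro W := by
  have hG : ∀ i, (toOv S).essImage (G.obj i) := fun i => exists_obj_iso _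
  let e := Functor.essImage.liftFunctorCompIso G (toOv S) hG
  let L : I ⥤ StructuredArrow W (toOv S) :=
    { obj := fun i => StructuredArrow.mk (Y := (Functor.essImage.liftFunctor G (toOv S) hG).obj i)
        (π.app i ≫ e.inv.app i)
      map := fun {i j} f => StructuredArrow.homMk ((Functor.essImage.liftFunctor G (toOv S) hG).map f) (by
        change (π.app i ≫ e.inv.app i) ≫ _ = π.app j ≫ e.inv.app j
        rw [Category.assoc]
        refine (congrArg (π.app i ≫ ·) (e.inv.naturality f).symm).trans ?_
        rw [← Category.assoc, ← π.naturality]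
        simp)
      map_id := fun i => StructuredArrow.ext _ _ ((Functor.essImage.liftFunctor G (toOv S) hG).map_id i)
      map_comp := fun f g => StructuredArrow.ext _ _
        ((Functor.essImage.liftFunctor G (toOv S) hG).map_comp f g) }
  have : L.Initial := by
    refine Functor.initial_of_exists_of_isCofiltered _ (fun b => ?_) fun {b i} s s' => ?_
    · obtain ⟨i, g, hg⟩ := exists_factor G π hc ((toOv S).obj b.right) b.hom
      exact ⟨i, ⟨StructuredArrow.homMk ((toOv S).preimage (e.hom.app i ≫ g))
        (by rw [Functor.map_preimage]; simp [L, hg])⟩⟩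
    · obtain ⟨j, f, hf⟩ := exists_equalizing G π hc ((toOv S).obj b.right)
        (e.inv.app i ≫ (toOv S).map s.right) (e.inv.app i ≫ (toOv S).map s'.right) (by
          rw [← Category.assoc, ← Category.assoc]
          exact (StructuredArrow.w s).trans (StructuredArrow.w s').symm)
      refine ⟨j, f, StructuredArrow.ext _ _ ((toOv S).map_injective ?_)⟩
      simp only [StructuredArrow.comp_right, Functor.map_comp]
      have h1 := reassoc_of% (e.hom.naturality f)
      rw [← cancel_epi (e.inv.app j)]
      have hn := fun (x : (toOv S).obj ((Functor.essImage.liftFunctor G (toOv S) hG).obj i) ⟶ (toOv S).obj b.right) =>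
        (show e.inv.app j ≫ (toOv S).map ((Functor.essImage.liftFunctor G (toOv S) hG).map f) ≫ x =
            G.map f ≫ e.inv.app i ≫ x from (Category.assoc _ _ _).symm.trans
          ((congrArg (· ≫ x) (e.inv.naturality f).symm).trans (Category.assoc _ _ _)))
      exact (hn _).trans (hf.trans (hn _).symm)
  refine ⟨inferInstance, ⟨(Functor.Initial.isLimitWhiskerEquiv L (stageCone W)) ?_⟩⟩
  refine IsLimit.ofIsoLimit ((IsLimit.postcomposeInvEquiv
    (Functor.isoWhiskerRight e (Over.forget S)) _).symm hc) (Cone.ext (Iso.refl _) fun i => ?_)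
  exact (Category.id_comp _).symm

/-- ind-etale affine schemes are limits of their stages -/
theorem isPro_of_isIndEtale [IsAffine W.left]
    (h : letI := W.hom.appTop.hom.toAlgebra; EtPBC.IsIndEtale Γ(S, ⊤) Γ(W.left, ⊤)) : IsPro W := by
  letI := W.hom.appTop.hom.toAlgebra
  obtain ⟨Y, hY, ⟨e⟩⟩ := IndEtLib.exists_sys h
  let s : ∀ (R : Under (CommRingCat.of Γ(S, ⊤))), Over S := fun R => Over.mk (Spec.map R.hom ≫ S.isoSpec.inv)
  let G : Y.Jᵒᵖ ⥤ Over S :=
    { obj := fun j => s (Y.D.obj j.unop)
      map := fun {i j} f => Over.homMk (Spec.map (Y.D.map f.unop).right) (by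
        change Spec.map _ ≫ Spec.map _ ≫ _ = Spec.map _ ≫ _
        rw [← Category.assoc, ← Spec.map_comp, Under.w])
      map_id := fun i => Over.OverMorphism.ext (by simp; rfl)
      map_comp := fun f g => Over.OverMorphism.ext (by simp) }
  have : ∀ j, IsAffine (G.obj j).left := fun j => inferInstanceAs (IsAffine (Spec _))
  have : ∀ j, Etale (G.obj j).hom := fun j => by
    have : Etale (Spec.map (Y.D.obj j.unop).hom) :=
      (HasRingHomProperty.Spec_iff (P := @Etale)).2 (RingHom.etale_algebraMap.2 (hY j.unop))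
    exact inferInstanceAs (Etale (Spec.map _ ≫ _))
  let e' : CommRingCat.of Y.pt ≅ Γ(W.left, ⊤) := e.toRingEquiv.toCommRingCatIso
  let w : W.left ≅ Spec (CommRingCat.of Y.pt) := W.left.isoSpec ≪≫ Scheme.Spec.mapIso e'.op
  have hw : w.hom ≫ Spec.map Y.c.pt.hom ≫ S.isoSpec.inv = W.hom := by
    have h1 : Y.c.pt.hom ≫ e'.hom = W.hom.appTop := CommRingCat.hom_ext (RingHom.ext fun a => e.commutes a)
    change (W.left.isoSpec.hom ≫ Spec.map e'.hom) ≫ _ = _
    rw [Category.assoc, ← Spec.map_comp_assoc, h1, Scheme.isoSpec_hom_naturality_assoc,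
      Iso.hom_inv_id, Category.comp_id]
  let π : (Functor.const Y.Jᵒᵖ).obj W ⟶ G :=
    { app := fun j => Over.homMk (w.hom ≫ Spec.map (Y.c.ι.app j.unop).right) (by
        change (_ ≫ Spec.map _) ≫ Spec.map _ ≫ _ = _
        rw [Category.assoc, ← Spec.map_comp_assoc, Under.w]
        exact hw)
      naturality := fun i j f => Over.OverMorphism.ext (by
        change 𝟙 _ ≫ w.hom ≫ Spec.map _ = (w.hom ≫ Spec.map _) ≫ Spec.map _
        rw [Category.id_comp, Category.assoc, ← Spec.map_comp, ← Under.comp_right, Y.c.w f.unop]) }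
  have : IsConnected Y.J := IsFiltered.isConnected _
  have hl := isLimitOfPreserves Scheme.Spec
    (isColimitOfPreserves (Under.forget (CommRingCat.of Γ(S, ⊤))) Y.hc).op
  refine isPro_of_isLimit G π (IsLimit.ofIsoLimit
    ((IsLimit.postcomposeHomEquiv (NatIso.ofComponents (fun _ => Iso.refl _) (by intros; simp [G, s])) _).symm hl)
    (Cone.ext w.symm fun j => ?_))
  change Spec.map _ ≫ 𝟙 _ = w.inv ≫ w.hom ≫ Spec.map _
  rw [Category.comp_id, Iso.inv_hom_id_assoc]
  rfl

/-- limits of their stages are ind-etale -/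
theorem IsPro.isIndEtale (h : IsPro W) :
    letI := W.hom.appTop.hom.toAlgebra; EtPBC.IsIndEtale Γ(S, ⊤) Γ(W.left, ⊤) := by
  have := h.isAffine
  letI := W.hom.appTop.hom.toAlgebra
  obtain ⟨hl⟩ := h.isLimit
  refine IndEtLib.isIndEtale_of_factor fun P _ _ _ φ => ?_
  let T : Over S := Over.mk (Spec.map (CommRingCat.ofHom (algebraMap Γ(S, ⊤) P)) ≫ S.isoSpec.inv)
  have : LocallyOfFinitePresentation T.hom := by
    have : LocallyOfFinitePresentation (Spec.map (CommRingCat.ofHom (algebraMap Γ(S, ⊤) P))) :=
      (HasRingHomProperty.Spec_iff (P := @LocallyOfFinitePresentation)).2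
        (RingHom.finitePresentation_algebraMap.2 ‹_›)
    exact inferInstanceAs (LocallyOfFinitePresentation (Spec.map _ ≫ _))
  let a : W ⟶ T := Over.homMk (W.left.isoSpec.hom ≫ Spec.map (CommRingCat.ofHom φ.toRingHom)) (by
    change (_ ≫ Spec.map _) ≫ Spec.map _ ≫ _ = _
    rw [Category.assoc, ← Spec.map_comp_assoc,
      show CommRingCat.ofHom (algebraMap Γ(S, ⊤) P) ≫ CommRingCat.ofHom φ.toRingHom = W.hom.appTop from
        CommRingCat.hom_ext (RingHom.ext φ.commutes),
      Scheme.isoSpec_hom_naturality_assoc, Iso.hom_inv_id, Category.comp_id])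
  have : ∀ i : StructuredArrow W (toOv S), IsAffine ((StructuredArrow.proj W (toOv S) ⋙ toOv S).obj i).left :=
    fun i => isAffine_toOv i.right
  obtain ⟨i, g, hg⟩ := exists_factor (StructuredArrow.proj W (toOv S) ⋙ toOv S)
    { app := fun i => i.hom
      naturality := fun i j f => (Category.id_comp _).trans (StructuredArrow.w f).symm } hl T a
  let N : Over S := (toOv S).obj i.right
  have hN : Etale N.hom := etale_toOv i.right
  let g₀ : N.left ⟶ Spec (CommRingCat.of P) := g.left
  letI := N.hom.appTop.hom.toAlgebra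
  have hEt : Algebra.Etale Γ(S, ⊤) Γ(N.left, ⊤) := RingHom.etale_algebraMap.1
    (HasRingHomProperty.appTop (P := @Etale) _ hN)
  have hga : CommRingCat.ofHom φ.toRingHom =
      (Scheme.ΓSpecIso (CommRingCat.of P)).inv ≫ g₀.appTop ≫ i.hom.left.appTop := by
    rw [← Scheme.Hom.comp_appTop,
      show i.hom.left ≫ g₀ = W.left.isoSpec.hom ≫ Spec.map (CommRingCat.ofHom φ.toRingHom) from
        congrArg (fun f => f.left) hg,
      Scheme.Hom.comp_appTop, ← Scheme.ΓSpecIso_inv_naturality_assoc, Scheme.isoSpec_hom,
      Scheme.toSpecΓ_appTop, Iso.inv_hom_id, Category.comp_id]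
  have hS : S.isoSpec.inv.appTop = (Scheme.ΓSpecIso Γ(S, ⊤)).inv := by
    rw [← cancel_mono (Scheme.ΓSpecIso Γ(S, ⊤)).hom, Iso.inv_hom_id]
    have h0 := congrArg (fun f : Spec Γ(S, ⊤) ⟶ Spec Γ(S, ⊤) => f.appTop) S.isoSpec.inv_hom_id
    have h1 := congrArg (fun f : S ⟶ S => f.appTop) S.isoSpec.hom_inv_id
    simp only [Scheme.Hom.comp_appTop, Scheme.isoSpec_hom, Scheme.toSpecΓ_appTop] at h1
    exact h1.trans (by rfl)
  refine ⟨Γ(N.left, ⊤), inferInstance, inferInstance, hEt,
    AlgHom.mk ((Scheme.ΓSpecIso (CommRingCat.of P)).inv ≫ g₀.appTop).hom (fun r => ?_),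
    AlgHom.mk i.hom.left.appTop.hom (fun r => ?_), AlgHom.ext fun x => ?_⟩
  · have h2 : CommRingCat.ofHom (algebraMap Γ(S, ⊤) P) ≫ (Scheme.ΓSpecIso (CommRingCat.of P)).inv ≫
        g₀.appTop = N.hom.appTop := by
      rw [← (show g₀ ≫ Spec.map (CommRingCat.ofHom (algebraMap Γ(S, ⊤) P)) ≫ S.isoSpec.inv = N.hom from Over.w g),
        Scheme.Hom.comp_appTop]
      change _ = (Spec.map _ ≫ S.isoSpec.inv).appTop ≫ _
      rw [Scheme.Hom.comp_appTop, Category.assoc]
      rw [hS, Scheme.ΓSpecIso_inv_naturality_assoc]
      rfl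
    exact ConcreteCategory.congr_hom h2 r
  · exact ConcreteCategory.congr_hom ((Scheme.Hom.comp_appTop _ _).symm.trans
      (congrArg (fun f : W.left ⟶ S => f.appTop) (Over.w i.hom))) r
  · exact (ConcreteCategory.congr_hom hga x).symm

end Groth.Agent.ProStage
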